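import Mathlib.RingTheory.NoetherNormalization
import Mathlib.RingTheory.AlgebraicIndependent.TranscendenceBasis
import Mathlib.RingTheory.AlgebraicIndependent.AlgebraicClosure
import Mathlib.RingTheory.Localization.Algebra
import Mathlib.RingTheory.Algebraic.Integral
import Mathlib.Logic.Equiv.Fintype
import Mathlib.RingTheory.KrullDimension.Polynomial
import Mathlib.RingTheory.KrullDimension.NonZeroDivisors
import Groth.Agent.SegreDim.Noether

/-!
Noether normalisation adapted to a prime: the prime becomes a coordinate subspace.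
-/

open private hom2_isIntegral hom2 from Mathlib.RingTheory.NoetherNormalization

set_option autoImplicit false
set_option linter.style.haveILetI false
set_option backward.isDefEq.respectTransparency false
set_option backward.isDefEq.respectTransparency.types false
universe u

open MvPolynomial

namespace Groth.Agent.NNPrime

variable {k : Type u} [Field k] {n : ℕ}

theorem trdeg_fraction {D K P : Type u} [CommRing D] [IsDomain D] [Field K] [CommRing P] [IsDomain P]
    [Algebra k D] [Algebra k K] [Algebra D K] [IsScalarTower k D K] [IsFractionRing D K] [Algebra k P]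
    [Algebra P D] [IsScalarTower k P D] [Algebra.IsIntegral P D] [FaithfulSMul P D] :
    Algebra.trdeg k K = Algebra.trdeg k P := by
  haveI : Algebra.IsAlgebraic P D := Algebra.IsIntegral.isAlgebraic
  haveI : Algebra.IsAlgebraic D K := IsLocalization.isAlgebraic _ (nonZeroDivisors _)
  haveI : FaithfulSMul k D := (faithfulSMul_iff_algebraMap_injective k D).2 (algebraMap k D).injective
  haveI : FaithfulSMul k P := (faithfulSMul_iff_algebraMap_injective k P).2 (algebraMap k P).injective
  rw [← trdeg_add_eq k D (A := K), trdeg_eq_zero (R := D) (A := K), add_zero,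
    ← trdeg_add_eq k P (A := D), trdeg_eq_zero (R := P) (A := D), add_zero]

theorem card_of_hom {D K : Type u} [CommRing D] [IsDomain D] [Field K] [Algebra k D] [Algebra k K] [Algebra D K]
    [IsScalarTower k D K] [IsFractionRing D K] {s : ℕ} (g : MvPolynomial (Fin s) k →ₐ[k] D)
    (hg : Function.Injective g) (hint : g.toRingHom.IsIntegral) : Algebra.trdeg k K = (s : Cardinal) := by
  letI := g.toRingHom.toAlgebra
  haveI : IsScalarTower k (MvPolynomial (Fin s) k) D := IsScalarTower.of_algebraMap_eq fun x => (g.commutes x).symm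
  haveI : Algebra.IsIntegral (MvPolynomial (Fin s) k) D := ⟨hint⟩
  haveI : FaithfulSMul (MvPolynomial (Fin s) k) D := (faithfulSMul_iff_algebraMap_injective _ _).2 hg
  rw [trdeg_fraction (D := D) (P := MvPolynomial (Fin s) k),
    MvPolynomial.trdeg_of_isDomain, Cardinal.mk_fin, Cardinal.lift_natCast]

theorem algebraicIndependent_card_eq (q : Ideal (MvPolynomial (Fin n) k)) [q.IsPrime] {s : ℕ}
    (g : MvPolynomial (Fin s) k →ₐ[k] MvPolynomial (Fin n) k ⧸ q) (hg : Function.Injective g)
    (hint : g.toRingHom.IsIntegral) : Algebra.trdeg k q.ResidueField = (s : Cardinal) :=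
  card_of_hom (D := MvPolynomial (Fin n) k ⧸ q) (K := q.ResidueField) g hg hint

theorem isIntegral_of_kerLift {P A : Type u} [CommRing P] [CommRing A] [Algebra k P] [Algebra k A] (Φ : P →ₐ[k] A)
    (hΦ : Φ.toRingHom.IsIntegral) : (Ideal.kerLiftAlg Φ).toRingHom.IsIntegral := by
  refine RingHom.IsIntegral.tower_top (Ideal.Quotient.mk (RingHom.ker Φ)) _ ?_
  have e : (Ideal.kerLiftAlg Φ).toRingHom.comp (Ideal.Quotient.mk (RingHom.ker Φ)) = Φ.toRingHom :=
    RingHom.ext fun a => Ideal.kerLiftAlg_mk _ a
  exact e.symm ▸ hΦ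

theorem hom2_X {N : ℕ} (f : MvPolynomial (Fin (N + 1)) k) (I : Ideal (MvPolynomial (Fin (N + 1)) k)) (j : Fin N) :
    hom2 f I (X j) = Ideal.Quotient.mk I (X j.succ - X 0 ^ ((2 + f.totalDegree) ^ (j.succ : ℕ))) := by
  have h1 : (finSuccEquiv k N).symm (Polynomial.C (X j)) = X j.succ := by
    rw [AlgEquiv.symm_apply_eq, finSuccEquiv_X_succ]
  change Ideal.Quotient.mk I (NoetherNormalization.T1 f (-1) ((finSuccEquiv k N).symm (Polynomial.C (X j)))) = _
  rw [h1, aeval_X, if_neg (Fin.succ_ne_zero j), neg_one_smul, sub_eq_add_neg]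

/-- One elimination step. -/
theorem step {A : Type u} [CommRing A] [Algebra k A] {N : ℕ} (v : Fin (N + 1) → A)
    (hint : (aeval (R := k) v).toRingHom.IsIntegral) (f : MvPolynomial (Fin (N + 1)) k) (hf : f ≠ 0)
    (hf0 : aeval v f = 0) :
    ∃ e : Fin N → ℕ, (∀ j, 0 < e j) ∧ (aeval (R := k) fun j => v j.succ - v 0 ^ e j).toRingHom.IsIntegral := by
  refine ⟨fun j => (2 + f.totalDegree) ^ (j.succ : ℕ), fun j => by positivity, ?_⟩
  have he : (aeval (R := k) fun j => v j.succ - v 0 ^ (2 + f.totalDegree) ^ (j.succ : ℕ)) =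
      (Ideal.kerLiftAlg (aeval (R := k) v)).comp (hom2 f (RingHom.ker (aeval (R := k) v))) := by
    refine MvPolynomial.algHom_ext fun j => ?_
    rw [aeval_X, AlgHom.comp_apply, hom2_X]
    refine (Eq.trans ?_ (Ideal.kerLiftAlg_mk (aeval (R := k) v) _).symm)
    rw [map_sub, map_pow, aeval_X, aeval_X]
  rw [he]
  exact RingHom.IsIntegral.trans (hom2 f (RingHom.ker (aeval (R := k) v))).toRingHom
    (Ideal.kerLiftAlg (aeval (R := k) v)).toRingHom (hom2_isIntegral f _ hf hf0) (isIntegral_of_kerLift _ hint)

theorem exists_coords (q : Ideal (MvPolynomial (Fin n) k)) {r : ℕ} :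
    ∀ (N : ℕ) (v : Fin N → MvPolynomial (Fin n) k) (ε : Fin r → Fin N),
      Function.Injective ε → (∀ x, x ∉ Set.range ε → v x ∈ q) →
      Function.Injective ((Ideal.Quotient.mkₐ k q).comp (aeval (v ∘ ε))) →
      (aeval (R := k) v).toRingHom.IsIntegral →
    ∃ (v' : Fin n → MvPolynomial (Fin n) k) (ε' : Fin r → Fin n),
      Function.Injective ε' ∧ (∀ x, x ∉ Set.range ε' → v' x ∈ q) ∧
      Function.Injective ((Ideal.Quotient.mkₐ k q).comp (aeval (v' ∘ ε'))) ∧
      (aeval (R := k) v').toRingHom.IsIntegral := by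
  intro N
  induction N using Nat.strong_induction_on with
  | _ N ih =>
  intro v ε hε hout hind hint
  by_cases hinj : Function.Injective (aeval (R := k) v)
  · obtain rfl : N = n := by
      letI := (aeval (R := k) v).toRingHom.toAlgebra
      haveI : Algebra.IsIntegral (MvPolynomial (Fin N) k) (MvPolynomial (Fin n) k) := ⟨hint⟩
      have h := SegreDim.ringKrullDim_eq_of_injective_integral (A := MvPolynomial (Fin N) k)
        (B := MvPolynomial (Fin n) k) hinj
      rw [MvPolynomial.ringKrullDim_of_isNoetherianRing, MvPolynomial.ringKrullDim_of_isNoetherianRing,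
        ringKrullDim_eq_zero_of_field, zero_add, zero_add, Nat.card_fin, Nat.card_fin] at h
      exact_mod_cast h
    exact ⟨v, ε, hε, hout, hind, hint⟩
  · obtain ⟨f, hf0, hf⟩ : ∃ f, aeval v f = 0 ∧ f ≠ 0 := by
      by_contra hcon
      push Not at hcon
      exact hinj ((injective_iff_map_eq_zero _).2 hcon)
    obtain ⟨p₀, hp₀⟩ : ∃ p₀, p₀ ∉ Set.range ε := by
      by_contra hcon
      push Not at hcon
      obtain ⟨g, rfl⟩ := rename_surjective ε hcon f
      rw [aeval_rename] at hf0
      have : g = 0 := hind (by rw [AlgHom.comp_apply, hf0, map_zero, map_zero])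
      exact hf (by rw [this, map_zero])
    obtain ⟨N', rfl⟩ : ∃ N', N = N' + 1 := ⟨N - 1, by have := p₀.isLt; omega⟩
    let σ : Equiv.Perm (Fin (N' + 1)) := Equiv.swap 0 p₀
    have hσ : aeval (R := k) v = (aeval (R := k) (v ∘ σ)).comp (renameEquiv k σ.symm).toAlgHom := by
      refine MvPolynomial.algHom_ext fun i => ?_
      simp
    have hint' : (aeval (R := k) (v ∘ σ)).toRingHom.IsIntegral := by
      rw [hσ] at hint
      exact RingHom.IsIntegral.tower_top (renameEquiv k σ.symm).toAlgHom.toRingHom _ hint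
    obtain ⟨e, he, hint''⟩ := step (v ∘ σ) hint' ((renameEquiv k σ.symm) f)
      (fun h => hf ((renameEquiv k σ.symm).injective (by rw [h, map_zero])))
      ((AlgHom.congr_fun hσ f).symm.trans hf0)
    have h0 : v (σ 0) ∈ q := hout _ (by simpa [σ] using hp₀)
    have hne : ∀ i, σ.symm (ε i) ≠ 0 := fun i h => hp₀ ⟨i, by
      have := congrArg σ h
      simpa [σ] using this⟩
    choose ε' hε' using fun i => Fin.exists_succ_eq.2 (hne i)
    refine ih N' (Nat.lt_succ_self _) _ ε' (fun a b h => hε (σ.symm.injective (by rw [← hε', ← hε', h])))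
      (fun x hx => ?_) ?_ hint''
    · refine sub_mem (hout _ ?_) (Ideal.pow_mem_of_mem _ h0 _ (he x))
      rintro ⟨i, hi⟩
      refine hx ⟨i, Fin.succ_injective _ ?_⟩
      rw [hε', hi, Equiv.symm_apply_apply]
    · rw [show ((Ideal.Quotient.mkₐ k q).comp (aeval ((fun j => (v ∘ σ) j.succ - (v ∘ σ) 0 ^ e j) ∘ ε'))) =
          (Ideal.Quotient.mkₐ k q).comp (aeval (v ∘ ε)) from MvPolynomial.algHom_ext fun i => by
        simp only [AlgHom.comp_apply, aeval_X, Function.comp_apply, hε', Equiv.apply_symm_apply]
        exact Ideal.Quotient.eq.2 (by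
          rw [sub_sub_cancel_left]
          exact neg_mem (Ideal.pow_mem_of_mem _ h0 _ (he _)))]
      exact hind

theorem exists_finite_coordinate (q : Ideal (MvPolynomial (Fin n) k)) [q.IsPrime] {r : ℕ}
    (hr : Algebra.trdeg k q.ResidueField = r) :
    ∃ φ : MvPolynomial (Fin n) k →ₐ[k] MvPolynomial (Fin n) k, φ.toRingHom.Finite ∧
      q.comap φ = Ideal.span (Set.range fun i : {i : Fin n // r ≤ (i : ℕ)} => X (i : Fin n)) := by
  obtain ⟨s, -, g, hg, hgi⟩ := exists_integral_inj_algHom_of_quotient q (Ideal.IsPrime.ne_top inferInstance)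
  obtain rfl : s = r := by
    have h := algebraicIndependent_card_eq q g hg hgi
    rw [hr] at h
    exact_mod_cast h.symm
  -- lifts of the transcendence basis and monic equations of the variables
  choose z hz using fun i : Fin s => Ideal.Quotient.mk_surjective (g (X i))
  have hgz : (Ideal.Quotient.mkₐ k q).comp (aeval z) = g := MvPolynomial.algHom_ext fun i => by
    simp [hz]
  choose P hPm hP using fun j : Fin n => hgi (Ideal.Quotient.mk q (X j))
  let w : Fin n → MvPolynomial (Fin n) k := fun j => Polynomial.eval₂ (aeval (R := k) z).toRingHom (X j) (P j)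
  have hw : ∀ j, w j ∈ q := fun j => by
    rw [← Ideal.Quotient.eq_zero_iff_mem, Polynomial.hom_eval₂]
    refine (?_ : _ = _).trans (hP j)
    exact congrArg (fun h => Polynomial.eval₂ h _ (P j)) (RingHom.ext fun a => AlgHom.congr_fun hgz a)
  let v : Fin (s + n) → MvPolynomial (Fin n) k := Fin.append z w
  have hv : (aeval (R := k) v).toRingHom.IsIntegral := by
    letI := (aeval (R := k) v).toRingHom.toAlgebra
    haveI : IsScalarTower k (MvPolynomial (Fin (s + n)) k) (MvPolynomial (Fin n) k) :=
      IsScalarTower.of_algebraMap_eq fun x => ((aeval (R := k) v).commutes x).symm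
    suffices Algebra.IsIntegral (MvPolynomial (Fin (s + n)) k) (MvPolynomial (Fin n) k) from this.isIntegral
    refine ⟨fun a => ?_⟩
    have hX : ∀ j : Fin n, IsIntegral (MvPolynomial (Fin (s + n)) k) (X j : MvPolynomial (Fin n) k) := fun j => by
      let Q : Polynomial (MvPolynomial (Fin (s + n)) k) :=
        (P j).map (rename (R := k) (Fin.castAdd n)).toRingHom - Polynomial.C (X (Fin.natAdd s j))
      have hQ : Polynomial.eval₂ (algebraMap (MvPolynomial (Fin (s + n)) k) (MvPolynomial (Fin n) k)) (X j) Q = 0 := by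
        rw [Polynomial.eval₂_sub, Polynomial.eval₂_C, Polynomial.eval₂_map]
        change Polynomial.eval₂ _ (X j) (P j) - aeval v (X (Fin.natAdd s j)) = 0
        rw [aeval_X, show v (Fin.natAdd s j) = w j from Fin.append_right z w j,
          show (algebraMap (MvPolynomial (Fin (s + n)) k) (MvPolynomial (Fin n) k)).comp
            (rename (R := k) (Fin.castAdd n)).toRingHom = (aeval (R := k) z).toRingHom from RingHom.ext fun a => by
              change aeval v (rename (Fin.castAdd n) a) = _
              rw [aeval_rename, show v ∘ Fin.castAdd n = z from funext fun i => Fin.append_left z w i]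
              rfl, sub_self]
      have hdeg : 0 < (P j).natDegree := by
        refine Nat.pos_of_ne_zero fun h0 => ?_
        have hone := (hPm j).natDegree_eq_zero.1 h0
        have := hP j
        rw [hone, Polynomial.eval₂_one] at this
        exact one_ne_zero this
      refine ⟨Q, ((hPm j).map _).sub_of_left ?_, hQ⟩
      refine lt_of_le_of_lt Polynomial.degree_C_le ?_
      rw [(hPm j).degree_map, Polynomial.degree_eq_natDegree (hPm j).ne_zero]
      exact_mod_cast hdeg
    induction a using MvPolynomial.induction_on with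
    | C c =>
      rw [← MvPolynomial.algebraMap_eq, IsScalarTower.algebraMap_apply k (MvPolynomial (Fin (s + n)) k)]
      exact isIntegral_algebraMap
    | add p p' hp hp' => exact hp.add hp'
    | mul_X p i hp => exact hp.mul (hX i)
  obtain ⟨u, ε, hε, hout, hind, hint⟩ := exists_coords q (s + n) v (Fin.castAdd n) (Fin.castAdd_injective _ _)
    (fun x hx => by
      refine Fin.addCases (fun i hi => absurd ⟨i, rfl⟩ hi) (fun j _ => ?_) x hx
      rw [show v (Fin.natAdd s j) = w j from Fin.append_right z w j]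
      exact hw j)
    (by rw [show v ∘ Fin.castAdd n = z from funext fun i => Fin.append_left z w i, hgz]; exact hg) hv
  have hsn : s ≤ n := by simpa using Fintype.card_le_of_injective ε hε
  let e₀ : {x : Fin n // (x : ℕ) < s} ≃ {x : Fin n // x ∈ Set.range ε} :=
    (⟨fun x => ⟨x.1, x.2⟩, fun i => ⟨⟨i, lt_of_lt_of_le i.isLt hsn⟩, i.isLt⟩, fun _ => rfl, fun _ => rfl⟩ :
      {x : Fin n // (x : ℕ) < s} ≃ Fin s).trans (Equiv.ofInjective ε hε)
  let π : Equiv.Perm (Fin n) := e₀.extendSubtype
  have hπ : ∀ i : Fin s, π (Fin.castLE hsn i) = ε i := fun i => by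
    rw [show π = e₀.extendSubtype from rfl, Equiv.extendSubtype_apply_of_mem e₀ _ i.isLt]
    rfl
  let φ : MvPolynomial (Fin n) k →ₐ[k] MvPolynomial (Fin n) k := aeval (R := k) (u ∘ π)
  have hφint : φ.toRingHom.IsIntegral := by
    have : aeval (R := k) u = φ.comp (renameEquiv k π.symm).toAlgHom :=
      MvPolynomial.algHom_ext fun i => by simp [φ]
    rw [this] at hint
    exact RingHom.IsIntegral.tower_top (renameEquiv k π.symm).toAlgHom.toRingHom _ hint
  refine ⟨φ, RingHom.IsIntegral.to_finite hφint ?_, le_antisymm ?_ (Ideal.span_le.2 ?_)⟩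
  · have h : φ.toRingHom.comp (algebraMap k (MvPolynomial (Fin n) k)) = algebraMap k _ := AlgHom.comp_algebraMap φ
    have hft : (algebraMap k (MvPolynomial (Fin n) k)).FiniteType := RingHom.finiteType_algebraMap.mpr inferInstance
    rw [← h] at hft
    exact hft.of_comp_finiteType
  · intro f hf
    set J : Ideal (MvPolynomial (Fin n) k) :=
      Ideal.span (Set.range fun i : {i : Fin n // s ≤ (i : ℕ)} => X (i : Fin n))
    let ρ : MvPolynomial (Fin n) k →ₐ[k] MvPolynomial (Fin s) k :=
      aeval fun x => if h : (x : ℕ) < s then X ⟨x, h⟩ else 0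
    have h1 : f - rename (Fin.castLE hsn) (ρ f) ∈ J := by
      rw [← Ideal.Quotient.eq]
      have : (Ideal.Quotient.mkₐ k J) = (Ideal.Quotient.mkₐ k J).comp ((rename (Fin.castLE hsn)).comp ρ) :=
        MvPolynomial.algHom_ext fun x => by
          simp only [AlgHom.comp_apply, ρ, aeval_X]
          split_ifs with h
          · rw [rename_X]; rfl
          · rw [map_zero, map_zero]
            exact Ideal.Quotient.eq_zero_iff_mem.2 (Ideal.subset_span ⟨⟨x, not_lt.1 h⟩, rfl⟩)
      exact AlgHom.congr_fun this f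
    have h2 : J ≤ q.comap φ := Ideal.span_le.2 (by
      rintro _ ⟨⟨x, hx⟩, rfl⟩
      change φ (X x) ∈ q
      rw [aeval_X]
      exact hout _ (Equiv.extendSubtype_not_mem e₀ x (not_lt.2 hx)))
    have h3 : φ (rename (Fin.castLE hsn) (ρ f)) ∈ q := by
      have := sub_mem hf (h2 h1)
      rwa [sub_sub_cancel] at this
    have h4 : ρ f = 0 := by
      refine (injective_iff_map_eq_zero _).1 hind _ ?_
      rw [AlgHom.comp_apply]
      refine Ideal.Quotient.eq_zero_iff_mem.2 ?_
      rw [show φ (rename (Fin.castLE hsn) (ρ f)) = aeval (u ∘ ε) (ρ f) by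
        rw [aeval_rename]; congr 1; exact congrArg _ (funext fun i => congrArg u (hπ i))] at h3
      exact h3
    rwa [h4, map_zero, sub_zero] at h1
  · rintro _ ⟨⟨x, hx⟩, rfl⟩
    change φ (X x) ∈ q
    rw [aeval_X]
    exact hout _ (Equiv.extendSubtype_not_mem e₀ x (not_lt.2 hx))

end Groth.Agent.NNPrime
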